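import Groth.Agent.Lib.SiteCoh.Basic
import Groth.Agent.Lib.SiteCoh.Higher
import Groth.Agent.Lib.ZarCoh.Basic
import Groth.Agent.Lib.SpecSeq.Composite
import Groth.Agent.Lib.SpecSeq.HomExt
import Groth.Prelude.Def_LocCohZ

/-!
# Sections with supports as composite functors
-/

universe u

open CategoryTheory Limits Opposite Abelian TopologicalSpace

namespace Groth.Agent.Lib.LocCohSS.Basic

open Groth.Agent.Lib.SiteCoh.Basic Groth.Agent.Lib.SpecSeq

lemma kernel_ι_comp {A : Type*} [Category A] [HasZeroMorphisms A] {a b c : A} (f : a ⟶ b)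
    [HasKernel f] (g : b ⟶ c) : kernel.ι f ≫ f ≫ g = 0 := by
  rw [kernel.condition_assoc, zero_comp]

variable {X : TopCat.{u}}

lemma subsingleton_hu_flasque (F : CohTop.Ab X) [TopCat.Sheaf.IsFlasque F] (V : Opens X) (n : ℕ) :
    Subsingleton (Ext (CohCx.freeSheaf (Opens.grothendieckTopology X) V) F (n + 1)) :=
  ZarCoh.Basic.HU_flasque F V n

/-- Flasque sheaves have no higher cohomology with supports. -/
theorem subsingleton_HZ_flasque (F : CohTop.Ab X) [TopCat.Sheaf.IsFlasque F] {W V : Opens X}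
    (h : W ≤ V) (p : ℕ) : Subsingleton (LocCohZ.HZ F (p + 1) h) := by
  refine subsingleton_of_forall_eq 0 fun x => ?_
  obtain ⟨y, rfl⟩ := Ext.contravariant_sequence_exact₃ (LocCohZ.zqSeq_shortExact h) F x
    ((subsingleton_hu_flasque F V p).elim _ _) (show 1 + p = p + 1 from add_comm 1 p)
  cases p with
  | zero =>
    obtain ⟨y, rfl⟩ := (Ext.mk₀_bijective _ _).2 y
    obtain ⟨t, ht⟩ := ZarCoh.Basic.flasque_surjective F h (homEquiv W F y)
    have hy : CohCx.freeSheafMap _ (homOfLE h) ≫ (homEquiv V F).symm t = y := by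
      apply (homEquiv W F).injective
      rw [homEquiv'_naturality_left, AddEquiv.apply_symm_apply]
      exact ht
    have key : ∀ t' : (LocCohZ.zqSeq h).X₂ ⟶ F,
        (LocCohZ.zqSeq_shortExact h).extClass.comp (Ext.mk₀ ((LocCohZ.zqSeq h).f ≫ t'))
          (add_zero 1) = 0 := fun t' => by
      rw [← Ext.mk₀_comp_mk₀, ← Ext.comp_assoc (a₁₂ := 1) (a₂₃ := 0) _ _ _ (add_zero 1)
        (add_zero 0) (by omega), (LocCohZ.zqSeq_shortExact h).extClass_comp, Ext.zero_comp]
    rw [← hy]
    exact key _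
  | succ n =>
    rw [(subsingleton_hu_flasque F W n).elim y 0]
    exact Ext.comp_zero (LocCohZ.zqSeq_shortExact h).extClass F (n + 1) _ (by omega)

/-- Maps out of `ℤ_V/ℤ_W` as maps out of `ℤ_V`. -/
lemma freeSheafMap_comp_eq_zero_iff {F : CohTop.Ab X} {W V : Opens X} (h : W ≤ V)
    (a : CohCx.freeSheaf (Opens.grothendieckTopology X) V ⟶ F) :
    CohCx.freeSheafMap (Opens.grothendieckTopology X) (homOfLE h) ≫ a = 0 ↔
      F.obj.map (homOfLE h).op (homEquiv V F a) = 0 := by
  rw [← homEquiv'_naturality_left, map_eq_zero_iff _ (homEquiv W F).injective]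

/-- The subgroup of `Hom(ℤ_V, F)` of maps killing `ℤ_W`. -/
noncomputable def homZqEquiv {W V : Opens X} (h : W ≤ V) (F : CohTop.Ab X) :
    (LocCohZ.zq h ⟶ F) ≃+ LocCohZ.sectZ F h where
  toFun u := ⟨homEquiv V F (cokernel.π _ ≫ u),
    (freeSheafMap_comp_eq_zero_iff h _).1 (by rw [cokernel.condition_assoc, zero_comp])⟩
  invFun s := cokernel.desc _ ((homEquiv V F).symm s.1)
    ((freeSheafMap_comp_eq_zero_iff h _).2 (by rw [AddEquiv.apply_symm_apply]; exact s.2))
  left_inv u := by
    rw [← cancel_epi (cokernel.π _), cokernel.π_desc]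
    exact (homEquiv V F).symm_apply_apply _
  right_inv s := Subtype.ext ((congrArg (homEquiv V F) (cokernel.π_desc _ _ _)).trans
    ((homEquiv V F).apply_symm_apply _))
  map_add' u v := Subtype.ext (by
    simp only [Preadditive.comp_add, map_add]
    rfl)

section Push

variable {Y : TopCat.{u}} (f : X ⟶ Y)

instance push_flasque (F : CohTop.Ab X) [TopCat.Sheaf.IsFlasque F] :
    TopCat.Sheaf.IsFlasque ((CohTop.push f).obj F) where
  epi {U V} i := TopCat.Presheaf.IsFlasque.epi (F := F.obj) ((Opens.map f).op.map i)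

/-- Sections with supports of a direct image. -/
noncomputable def pushZqIso (V : Opens Y) :
    CohTop.push f ⋙ HomExt.homFunctor (LocCohZ.zq (le_top : V ≤ ⊤)) ≅
      HomExt.homFunctor (LocCohZ.zq (le_top : (Opens.map f).obj V ≤ ⊤)) :=
  NatIso.ofComponents (fun F => AddEquiv.toAddCommGrpIso
    (((homZqEquiv le_top ((CohTop.push f).obj F)).trans
      { toFun := fun s => ⟨s.1, s.2⟩
        invFun := fun s => ⟨s.1, s.2⟩
        map_add' := fun _ _ => rfl }).trans (homZqEquiv le_top F).symm))
    (fun {F G} φ => by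
      ext a
      apply (homZqEquiv (le_top : (Opens.map f).obj V ≤ ⊤) G).injective
      refine ((homZqEquiv (le_top : (Opens.map f).obj V ≤ ⊤) G).apply_symm_apply _).trans
        (Subtype.ext ?_)
      change homEquiv ⊤ ((CohTop.push f).obj G)
          (cokernel.π _ ≫ a ≫ (CohTop.push f).map φ) =
        homEquiv ⊤ G (cokernel.π _ ≫ cokernel.desc _ ((homEquiv ⊤ F).symm
          (homEquiv ⊤ ((CohTop.push f).obj F) (cokernel.π _ ≫ a))) _ ≫ φ)
      refine (congrArg _ (Category.assoc _ _ _).symm).trans ((homEquiv_comp _ _).trans ?_)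
      refine Eq.trans ?_ (congrArg _ (cokernel.π_desc_assoc _ _ _ _).symm)
      refine Eq.trans ?_ (homEquiv_comp _ φ).symm
      exact congrArg (φ.hom.app (op ⊤)) ((homEquiv ⊤ F).apply_symm_apply _).symm)

end Push

section Supp

variable (U : Opens X)

/-- Restriction is left adjoint to direct image along the inclusion of an open. -/
noncomputable def restrAdj : CohTop.restrFunctor U ⊣ CohTop.push (CohCx.incl U) :=
  haveI : U.isOpenEmbedding.isOpenMap.functor.IsContinuous (Opens.grothendieckTopology U)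
      (Opens.grothendieckTopology X) := U.isOpenEmbedding.functor_isContinuous
  haveI : (Opens.map U.inclusion').IsContinuous (Opens.grothendieckTopology X)
      (Opens.grothendieckTopology U) :=
    Functor.isContinuous_of_coverPreserving (compatiblePreserving_opens_map (CohCx.incl U))
      (coverPreserving_opens_map (CohCx.incl U))
  U.isOpenEmbedding.isOpenMap.adjunction.sheafPushforwardContinuous _ _

/-- The unit of the prelude agrees with restriction up to an isomorphism. -/
lemma unit_app_eq_zero_iff (F : CohTop.Ab X) (V : Opens X) (s : F.obj.obj (op V)) :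
    ((TopCat.Sheaf.pullbackPushforwardAdjunction AddCommGrpCat.{u} (CohCx.incl U)).unit.app F).hom.app
        (op V) s = 0 ↔
      F.obj.map (U.isOpenEmbedding.isOpenMap.adjunction.counit.app V).op s = 0 := by
  let adj₁ := TopCat.Sheaf.pullbackPushforwardAdjunction AddCommGrpCat.{u} (CohCx.incl U)
  let g := (CohTop.push (CohCx.incl U)).map ((adj₁.leftAdjointUniq (restrAdj U)).hom.app F)
  have e : adj₁.unit.app F ≫ g = (restrAdj U).unit.app F :=
    Adjunction.unit_leftAdjointUniq_hom_app _ _ _
  have key : ((restrAdj U).unit.app F).hom.app (op V) s =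
      g.hom.app (op V) ((adj₁.unit.app F).hom.app (op V) s) := by
    rw [← e]
    rfl
  have : IsIso g := inferInstance
  have hinj : Function.Injective (g.hom.app (op V)) :=
    ((ConcreteCategory.isIso_iff_bijective _).1
      (inferInstance : IsIso (g.hom.app (op V)))).1
  constructor
  · intro h
    exact key.trans ((congrArg _ h).trans (map_zero _))
  · intro h
    apply hinj
    exact key.symm.trans (h.trans (map_zero _).symm)

lemma isOpenEmbedding_obj_top : U.isOpenEmbedding.isOpenMap.functor.obj ⊤ = U := by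
  ext x
  exact ⟨fun ⟨y, _, hy⟩ => hy ▸ y.2, fun hx => ⟨⟨x, hx⟩, trivial, rfl⟩⟩

/-- Sections killed by the unit are the sections vanishing on the trace of `U`. -/
lemma unit_app_eq_zero_iff' (F : CohTop.Ab X) {V W : Opens X}
    (hW : U.isOpenEmbedding.isOpenMap.functor.obj ((Opens.map U.inclusion').obj V) = W) (h : W ≤ V)
    (s : F.obj.obj (op V)) :
    ((TopCat.Sheaf.pullbackPushforwardAdjunction AddCommGrpCat.{u} (CohCx.incl U)).unit.app F).hom.app
        (op V) s = 0 ↔ F.obj.map (homOfLE h).op s = 0 := by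
  refine (unit_app_eq_zero_iff U F V s).trans ?_
  subst hW
  rw [show homOfLE h = U.isOpenEmbedding.isOpenMap.adjunction.counit.app V from
    Subsingleton.elim _ _]

lemma comp_unit_eq_zero_iff (F : CohTop.Ab X) {V W : Opens X}
    (hW : U.isOpenEmbedding.isOpenMap.functor.obj ((Opens.map U.inclusion').obj V) = W) (h : W ≤ V)
    (a : CohCx.freeSheaf (Opens.grothendieckTopology X) V ⟶ F) :
    a ≫ (TopCat.Sheaf.pullbackPushforwardAdjunction AddCommGrpCat.{u} (CohCx.incl U)).unit.app F = 0 ↔
      CohCx.freeSheafMap (Opens.grothendieckTopology X) (homOfLE h) ≫ a = 0 := by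
  rw [freeSheafMap_comp_eq_zero_iff, ← unit_app_eq_zero_iff' U F hW h]
  exact (map_eq_zero_iff _ (homEquiv V _).injective).symm.trans
    (Eq.to_iff (congrArg (· = 0) (homEquiv_comp a _)))

/-- Sections of sections with supports. -/
noncomputable def suppHomEquiv (F : CohTop.Ab X) {V W : Opens X}
    (hW : U.isOpenEmbedding.isOpenMap.functor.obj ((Opens.map U.inclusion').obj V) = W) (h : W ≤ V) :
    (CohCx.freeSheaf (Opens.grothendieckTopology X) V ⟶ (LocCohZ.sectSuppF U).obj F) ≃+
      (LocCohZ.zq h ⟶ F) where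
  toFun := fun a => cokernel.desc _ (a ≫ kernel.ι _) ((comp_unit_eq_zero_iff U F hW h _).1 (by
    erw [Category.assoc, kernel.condition, comp_zero]))
  invFun := fun b => kernel.lift _ (cokernel.π _ ≫ b) ((comp_unit_eq_zero_iff U F hW h _).2 (by
    erw [cokernel.condition_assoc, zero_comp]))
  left_inv := fun a => by
    apply equalizer.hom_ext
    erw [kernel.lift_ι, cokernel.π_desc]
    rfl
  right_inv := fun b => by
    apply coequalizer.hom_ext
    erw [cokernel.π_desc, kernel.lift_ι]
  map_add' := fun a b => by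
    apply coequalizer.hom_ext
    erw [cokernel.π_desc, Preadditive.comp_add, cokernel.π_desc, cokernel.π_desc,
      Preadditive.add_comp]

lemma suppHomEquiv_comp {F G : CohTop.Ab X} (φ : F ⟶ G) {V W : Opens X}
    (hW : U.isOpenEmbedding.isOpenMap.functor.obj ((Opens.map U.inclusion').obj V) = W) (h : W ≤ V)
    (a : CohCx.freeSheaf (Opens.grothendieckTopology X) V ⟶ (LocCohZ.sectSuppF U).obj F) :
    suppHomEquiv U G hW h (a ≫ (LocCohZ.sectSuppF U).map φ) = suppHomEquiv U F hW h a ≫ φ := by
  apply coequalizer.hom_ext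
  change cokernel.π _ ≫ cokernel.desc _ ((a ≫ (LocCohZ.sectSuppF U).map φ) ≫ kernel.ι _) _ =
    cokernel.π _ ≫ (cokernel.desc _ (a ≫ kernel.ι _) _ ≫ φ)
  rw [cokernel.π_desc, cokernel.π_desc_assoc]
  simp only [Category.assoc]
  congr 1
  exact kernel.lift_ι _ _ _

/-- Global sections of sections with supports. -/
noncomputable def suppHomIso :
    LocCohZ.sectSuppF U ⋙
        HomExt.homFunctor (CohCx.freeSheaf (Opens.grothendieckTopology X) (⊤ : Opens X)) ≅
      HomExt.homFunctor (LocCohZ.zq (le_top : U ≤ ⊤)) :=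
  NatIso.ofComponents (fun F => AddEquiv.toAddCommGrpIso
      (suppHomEquiv U F (V := ⊤) (isOpenEmbedding_obj_top U) le_top))
    (fun {F G} φ => by
      ext a
      exact suppHomEquiv_comp U φ _ _ a)

/-- `ℋ^{q+1}_Z F = 0` if `F` has no cohomology with supports. -/
theorem isZero_HZsh (F : CohTop.Ab X) (q : ℕ)
    (hF : ∀ (V W : Opens X) (h : W ≤ V), Subsingleton (LocCohZ.HZ F (q + 1) h)) :
    IsZero ((LocCohZ.HZsh U (q + 1)).obj F) := by
  let R := injectiveResolution F
  refine IsZero.of_iso ?_ (R.isoRightDerivedObj (LocCohZ.sectSuppF U) (q + 1))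
  refine HomologicalComplex.ExactAt.isZero_homology ?_
  rw [HomologicalComplex.exactAt_iff' _ q (q + 1) (q + 2) (by simp) (by simp)]
  refine SiteCoh.Higher.exact_of_sections _ fun V x hx => ?_
  have h : U.isOpenEmbedding.isOpenMap.functor.obj ((Opens.map U.inclusion').obj V) ≤ V :=
    leOfHom (U.isOpenEmbedding.isOpenMap.adjunction.counit.app V)
  let a : CohCx.freeSheaf (Opens.grothendieckTopology X) V ⟶
      (LocCohZ.sectSuppF U).obj (R.cocomplex.X (q + 1)) := (homEquiv V _).symm x
  have ha : a ≫ (LocCohZ.sectSuppF U).map (R.cocomplex.d (q + 1) (q + 2)) = 0 := by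
    refine (homEquiv_symm_comp x _).trans ?_
    exact (congrArg (homEquiv V _).symm hx).trans (map_zero _)
  let f := suppHomEquiv U _ rfl h a
  have hf : f ≫ R.cocomplex.d (q + 1) (q + 2) = 0 := by
    rw [← suppHomEquiv_comp, ha, map_zero]
  obtain ⟨g, hg⟩ := (R.extMk_eq_zero_iff f (q + 2) rfl hf q rfl).1 ((hF V _ h).elim _ 0)
  refine ⟨homEquiv V _ ((suppHomEquiv U _ rfl h).symm g), ?_⟩
  change ((LocCohZ.sectSuppF U).map (R.cocomplex.d q (q + 1))).hom.app (op V)
    (homEquiv V _ ((suppHomEquiv U _ rfl h).symm g)) = x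
  rw [← homEquiv_comp]
  apply (homEquiv V _).symm.injective
  rw [AddEquiv.symm_apply_apply]
  apply (suppHomEquiv U _ rfl h).injective
  rw [suppHomEquiv_comp, AddEquiv.apply_symm_apply, hg]

/-- Sections with supports of a flasque sheaf have no higher global cohomology. -/
theorem subsingleton_hu_sectSupp (F : CohTop.Ab X) [TopCat.Sheaf.IsFlasque F] (p : ℕ) :
    Subsingleton (Ext (CohCx.freeSheaf (Opens.grothendieckTopology X) (⊤ : Opens X))
      ((LocCohZ.sectSuppF U).obj F) (p + 1)) := by
  let adj₁ := TopCat.Sheaf.pullbackPushforwardAdjunction AddCommGrpCat.{u} (CohCx.incl U)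
  let g : F ⟶ (CohTop.push (CohCx.incl U)).obj ((CohTop.restrFunctor U).obj F) :=
    adj₁.unit.app F ≫ (CohTop.push (CohCx.incl U)).map ((adj₁.leftAdjointUniq (restrAdj U)).hom.app F)
  have hg : g = (restrAdj U).unit.app F := Adjunction.unit_leftAdjointUniq_hom_app _ _ _
  have hsurj : ∀ V, Function.Surjective (g.hom.app (op V)) := fun V => by
    rw [hg]
    exact (AddCommGrpCat.epi_iff_surjective _).1
      (TopCat.Presheaf.IsFlasque.epi (F := F.obj)
        (U.isOpenEmbedding.isOpenMap.adjunction.counit.app V).op)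
  have : TopCat.Sheaf.IsFlasque ((CohTop.restrFunctor U).obj F) :=
    { epi := fun i => TopCat.Presheaf.IsFlasque.epi (F := F.obj)
        (U.isOpenEmbedding.isOpenMap.functor.op.map i) }
  let S : ShortComplex (CohTop.Ab X) := ShortComplex.mk
    (kernel.ι (adj₁.unit.app F)) g
    (kernel_ι_comp (A := Sheaf (Opens.grothendieckTopology X) AddCommGrpCat.{u}) (adj₁.unit.app F)
      ((CohTop.push (CohCx.incl U)).map ((adj₁.leftAdjointUniq (restrAdj U)).hom.app F)))
  have : Mono S.f := inferInstanceAs (Mono (kernel.ι (adj₁.unit.app F)))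
  have : Epi S.g := (Sheaf.isLocallySurjective_iff_epi' _ g).1
    (Presheaf.isLocallySurjective_of_surjective _ g.hom fun V => hsurj V.unop)
  have hS : S.ShortExact := ShortComplex.ShortExact.mk'
    (ShortComplex.exact_of_f_is_kernel _ (isKernelCompMono (kernelIsKernel _) _ rfl)) inferInstance
    inferInstance
  refine subsingleton_of_forall_eq 0 fun x => ?_
  obtain ⟨y, rfl⟩ := Ext.covariant_sequence_exact₁ (n₀ := p) _ hS x
    ((subsingleton_hu_flasque F ⊤ p).elim _ _) rfl
  cases p with
  | zero =>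
    obtain ⟨t, ht⟩ := hsurj ⊤ (ext0Equiv _ _ y)
    obtain ⟨t', rfl⟩ := (ext0Equiv _ _).surjective t
    have hy : t'.comp (Ext.mk₀ S.g) (add_zero 0) = y := by
      apply (ext0Equiv _ _).injective
      rw [ext0Equiv_comp_mk₀]
      exact ht
    rw [← hy, Ext.comp_assoc (a₁₂ := 0) (a₂₃ := 1) t' _ _ (add_zero 0) (zero_add 1) (by omega),
      ShortComplex.ShortExact.comp_extClass, Ext.comp_zero]
    rfl
  | succ n =>
    rw [(subsingleton_hu_flasque S.X₃ ⊤ n).elim y 0, Ext.zero_comp]
    rfl

end Supp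

end Groth.Agent.Lib.LocCohSS.Basic

namespace Groth.Agent.Lib.LocCohSS.Basic

open Groth.Agent.Lib.SiteCoh.Basic Groth.Agent.Lib.SpecSeq

variable {X : TopCat.{u}}

/-- Sections over `V` as maps out of `ℤ_V`. -/
noncomputable def secHomIso (V : Opens X) :
    HomExt.homFunctor (CohCx.freeSheaf (Opens.grothendieckTopology X) V) ≅
      sheafToPresheaf (Opens.grothendieckTopology X) AddCommGrpCat.{u} ⋙
        (evaluation (Opens X)ᵒᵖ AddCommGrpCat.{u}).obj (op V) :=
  NatIso.ofComponents (fun F => AddEquiv.toAddCommGrpIso (homEquiv V F))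
    (fun {F G} φ => by
      ext a
      exact homEquiv_comp a φ)

/-- Global sections with supports as maps out of `ℤ_X/ℤ_U`. -/
noncomputable def gammaZIso (U : Opens X) :
    LocCohZ.gammaZF U ≅ HomExt.homFunctor (LocCohZ.zq (le_top : U ≤ ⊤)) :=
  Functor.isoWhiskerLeft (LocCohZ.sectSuppF U) (secHomIso ⊤).symm ≪≫ suppHomIso U

end Groth.Agent.Lib.LocCohSS.Basic
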